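import Groth.Agent.ProjTwistLib.Mul
import Groth.Agent.AmpleLib.Pullback
import Groth.Agent.ProjBundleLib.Adjunct

/-!
# Twisting sheaves under morphisms of `Proj` induced by graded ring homomorphisms
-/

set_option autoImplicit false
set_option backward.isDefEq.respectTransparency false
set_option linter.style.haveILetI false

universe u

open CategoryTheory CategoryTheory.Limits AlgebraicGeometry TopologicalSpace Opposite
open HomogeneousLocalization
open Groth.Agent.PullbackMod Groth.Agent.ProjTwist Groth.Agent.ProjTwistLib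

noncomputable section

namespace Groth.Agent.TwistFunctLib

variable {R A R₀ B : Type u} [CommRing R] [CommRing A] [Algebra R A] {𝒜 : ℕ → Submodule R A} [GradedAlgebra 𝒜]
  [CommRing R₀] [CommRing B] [Algebra R₀ B] {ℬ : ℕ → Submodule R₀ B} [GradedAlgebra ℬ]
  (φ : ℬ →+*ᵍ 𝒜) (hirr : HomogeneousIdeal.irrelevant 𝒜 ≤ (HomogeneousIdeal.irrelevant ℬ).map φ)

/-- The map of localizations at a point. -/
def locMap (x : ProjectiveSpectrum 𝒜) :
    Twist.Loc ℬ (ProjectiveSpectrum.comap φ hirr x) →+* Twist.Loc 𝒜 x :=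
  Localization.localRingHom _ _ φ.toRingHom rfl

lemma locMap_mk (x : ProjectiveSpectrum 𝒜) {i j : ℕ} (a : ℬ i) (s : ℬ j)
    (hs : s.1 ∉ (ProjectiveSpectrum.comap φ hirr x).asHomogeneousIdeal) :
    locMap φ hirr x (Localization.mk a.1 ⟨s.1, hs⟩) = Localization.mk (φ a.1) ⟨φ s.1, hs⟩ := by
  rw [Localization.mk_eq_mk', Localization.mk_eq_mk']
  exact Localization.localRingHom_mk' _ _ _ rfl _ _

lemma locMap_mem (x : ProjectiveSpectrum 𝒜) {d : ℤ} {q : Twist.Loc ℬ (ProjectiveSpectrum.comap φ hirr x)}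
    (hq : q ∈ Twist.twistAt ℬ d (ProjectiveSpectrum.comap φ hirr x)) :
    locMap φ hirr x q ∈ Twist.twistAt 𝒜 d x := by
  induction hq using Submodule.span_induction with
  | mem q hq =>
    obtain ⟨i, j, a, s, hs, he, rfl⟩ := hq
    exact Submodule.subset_span ⟨i, j, ⟨φ a.1, φ.map_mem a.2⟩, ⟨φ s.1, φ.map_mem s.2⟩, hs, he, locMap_mk φ hirr x a s hs⟩
  | zero => simp
  | add p q _ _ hp hq => rw [map_add]; exact add_mem hp hq
  | smul c p _ hp =>
    have e : locMap φ hirr x (c • p) =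
        (HomogeneousLocalization.localRingHom φ _ x.asHomogeneousIdeal.toIdeal rfl c) • locMap φ hirr x p := by
      rw [Algebra.smul_def, Algebra.smul_def, map_mul, HomogeneousLocalization.algebraMap_apply,
        HomogeneousLocalization.algebraMap_apply, HomogeneousLocalization.val_localRingHom]
      rfl
    rw [e]
    exact Submodule.smul_mem _ _ hp

/-- Inverse image of a section of a twisting sheaf. -/
def sectMap (d : ℤ) (U : (Proj ℬ).Opens) (f : Twist.sectN (𝒜 := ℬ) d (op U)) :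
    Twist.sectN (𝒜 := 𝒜) d (op (Proj.map φ hirr ⁻¹ᵁ U)) :=
  ⟨fun x => ⟨locMap φ hirr x.1 (f.1 ⟨ProjectiveSpectrum.comap φ hirr x.1, x.2⟩).1,
      locMap_mem φ hirr x.1 (f.1 ⟨ProjectiveSpectrum.comap φ hirr x.1, x.2⟩).2⟩, fun x => by
    obtain ⟨W, hW, iW, i, j, a, s, nin, hc, hw⟩ := f.2 ⟨ProjectiveSpectrum.comap φ hirr x.1, x.2⟩
    refine ⟨Proj.map φ hirr ⁻¹ᵁ W, hW, homOfLE fun y hy => iW.le hy, i, j,
      ⟨φ a.1, φ.map_mem a.2⟩, ⟨φ s.1, φ.map_mem s.2⟩,
      fun y => nin ⟨ProjectiveSpectrum.comap φ hirr y.1, y.2⟩, ?_, fun y => ?_⟩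
    · rcases hc with hc | hc
      · exact Or.inl hc
      · exact Or.inr (show φ a.1 = 0 by rw [hc, map_zero])
    · exact (congrArg (locMap φ hirr y.1) (hw ⟨ProjectiveSpectrum.comap φ hirr y.1, y.2⟩)).trans
        (locMap_mk φ hirr y.1 a s _)⟩

/-- The canonical map `O(d) ⟶ g_* O(d)`. -/
def toPush (d : ℤ) :
    Twist.twist ℬ d ⟶ (Scheme.Modules.pushforward (Proj.map φ hirr)).obj (Twist.twist 𝒜 d) :=
  SheafOfModules.Hom.mk <| PresheafOfModules.homMk
    { app := fun U => AddCommGrpCat.ofHom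
        { toFun := fun f => sectMap φ hirr d U.unop f
          map_zero' := Subtype.ext (funext fun x => Subtype.ext (map_zero (locMap φ hirr x.1)))
          map_add' := fun f f' => Subtype.ext (funext fun x => Subtype.ext (map_add (locMap φ hirr x.1) _ _)) }
      naturality := fun U V i => rfl }
    (fun U c f => by
      refine Subtype.ext (funext fun x => Subtype.ext ?_)
      refine ((congrArg (locMap φ hirr x.1) (Twist.coe_smul_val d _ _ _)).trans (map_mul _ _ _)).trans ?_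
      refine Eq.trans ?_ (Twist.coe_smul_val d x.1 _ _).symm
      refine congrArg₂ (· * ·) ?_ rfl
      exact (HomogeneousLocalization.val_localRingHom _).symm)

/-- The comparison `g^* O(d) ⟶ O(d)`. -/
def cmp (d : ℤ) :
    (Scheme.Modules.pullback (Proj.map φ hirr)).obj (Twist.twist ℬ d) ⟶ Twist.twist 𝒜 d :=
  ((Scheme.Modules.pullbackPushforwardAdjunction (Proj.map φ hirr)).homEquiv _ _).symm (toPush φ hirr d)

/-- The comparison is an isomorphism where the degree has units everywhere. -/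
theorem isIso_cmp {d : ℤ} (hd : ∀ y : Proj ℬ, HasUnit ℬ d y) : IsIso (cmp φ hirr d) := by
  haveI := InvExt.isQCoh_of_isInvertible (isInvertible_of_hasUnit hd)
  refine (isIso_iff_stalk _).2 fun x => ?_
  obtain ⟨i, j, a, s, he, ha, hs⟩ := hd (Proj.map φ hirr x)
  let W := Proj.basicOpen ℬ s.1 ⊓ Proj.basicOpen ℬ a.1
  have hW : Proj.map φ hirr x ∈ W := ⟨hs, ha⟩
  have hgen := gen_frac a s d he (V := W) inf_le_left inf_le_right
  let e := (Twist.twist ℬ d).presheaf.germ W _ hW (frac ℬ a s d he inf_le_left)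
  have hsrc := AmpleLib.bijective_pullStalk (Proj.map φ hirr) x (L := Twist.twist ℬ d) (e := e) (hgen.bijective_germ _ hW)
  let a' : 𝒜 i := ⟨φ a.1, φ.map_mem a.2⟩
  let s' : 𝒜 j := ⟨φ s.1, φ.map_mem s.2⟩
  have hW' : Proj.map φ hirr ⁻¹ᵁ W ≤ Proj.basicOpen 𝒜 s'.1 := fun y hy => hy.1
  have himg : (toPush φ hirr d).app W (frac ℬ a s d he inf_le_left) = frac 𝒜 a' s' d he hW' := by
    refine sect_ext fun y => ?_
    exact locMap_mk φ hirr y.1 a s _
  have htgt := (gen_frac a' s' d he hW' (fun y hy => hy.2)).bijective_germ x hW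
  have hval : stalkLin (cmp φ hirr d) x (pullStalk (Proj.map φ hirr) _ x e) =
      (Twist.twist 𝒜 d).presheaf.germ (Proj.map φ hirr ⁻¹ᵁ W) x hW (frac 𝒜 a' s' d he hW') := by
    rw [← himg]
    exact ProjBundleLib.stalkLin_adjunct (Proj.map φ hirr) (toPush φ hirr d) x hW _
  constructor
  · intro p q hpq
    obtain ⟨r, rfl⟩ := hsrc.2 p
    obtain ⟨r', rfl⟩ := hsrc.2 q
    rw [map_smul, map_smul, hval] at hpq
    exact congrArg (· • _) (htgt.1 hpq)
  · intro q
    obtain ⟨r, rfl⟩ := htgt.2 q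
    exact ⟨r • pullStalk (Proj.map φ hirr) _ x e, by rw [map_smul, hval]⟩

end Groth.Agent.TwistFunctLib
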